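import Groth.Agent.HopfLib.Comod
import Groth.Prelude.Def_GLin
import Groth.Prelude.Def_ComodSub
import Mathlib.RingTheory.HopfAlgebra.Basic
import Mathlib.RingTheory.Localization.Away.Basic
import Mathlib.RingTheory.MvPolynomial.Basic
import Mathlib.RingTheory.ZariskisMainTheorem

/-!
# Equivariant constructions on comodule algebras: subalgebras, linear polynomial rings, localizations, translations
-/

open TensorProduct HopfRep

universe u v w

namespace Groth.Agent.GLinLib

open Groth.Agent.HopfLib

set_option linter.unusedSectionVars false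
set_option maxHeartbeats 400000

variable {k : Type u} [Field k] {A : Type u} [CommRing A] [HopfAlgebra k A]

section Translate

variable {R : Type u} [CommRing R] [Algebra k R] [Comod k A R] [GLin.IsCoactAlg k A R]

/-- Translation by a rational point. -/
noncomputable def trans (g : A →ₐ[k] k) : R →ₐ[k] R :=
  ((Algebra.TensorProduct.rid k k R).toAlgHom.comp
    (Algebra.TensorProduct.map (AlgHom.id k R) g)).comp (GLin.coactAlgHom k A R)

theorem trans_apply (g : A →ₐ[k] k) (r : R) : trans g r = hit g.toLinearMap r := by
  simp only [trans, hit_apply, AlgHom.comp_apply, GLin.coactAlgHom_apply]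
  generalize (Comod.coact (k := k) (A := A) r) = t
  induction t using TensorProduct.induction_on with
  | zero => simp
  | add x y hx hy => simp [map_add, hx, hy]
  | tmul a b => simp

theorem formMul_antipode (g : A →ₐ[k] k) :
    formMul g.toLinearMap (g.toLinearMap ∘ₗ HopfAlgebraStruct.antipode (R := k)) = Coalgebra.counit ∧
    formMul (g.toLinearMap ∘ₗ HopfAlgebraStruct.antipode (R := k)) g.toLinearMap = Coalgebra.counit := by
  constructor
  · refine LinearMap.ext fun a => ?_
    have h := congrArg g (HopfAlgebra.mul_antipode_lTensor_comul_apply (R := k) a)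
    rw [AlgHom.commutes] at h
    refine Eq.trans ?_ h
    simp only [formMul, LinearMap.comp_apply]
    generalize Coalgebra.comul (R := k) a = t
    induction t using TensorProduct.induction_on with
    | zero => simp
    | add x y hx hy => simp [map_add, hx, hy]
    | tmul x y => simp
  · refine LinearMap.ext fun a => ?_
    have h := congrArg g (HopfAlgebra.mul_antipode_rTensor_comul_apply (R := k) a)
    rw [AlgHom.commutes] at h
    refine Eq.trans ?_ h
    simp only [formMul, LinearMap.comp_apply]
    generalize Coalgebra.comul (R := k) a = t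
    induction t using TensorProduct.induction_on with
    | zero => simp
    | add x y hx hy => simp [map_add, hx, hy]
    | tmul x y => simp

theorem trans_bijective (g : A →ₐ[k] k) : Function.Bijective (trans (R := R) g) := by
  refine Function.bijective_iff_has_inverse.2
    ⟨fun r => hit (g.toLinearMap ∘ₗ HopfAlgebraStruct.antipode (R := k)) r, fun r => ?_, fun r => ?_⟩
  · simp only [trans_apply]; rw [hit_hit, (formMul_antipode g).2, hit_counit]
  · simp only [trans_apply]; rw [hit_hit, (formMul_antipode g).1, hit_counit]

/-- Over an algebraically closed field a subspace stable under all translations is a subcomodule. -/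
theorem isSubcomod_of_trans (hA : ∀ a : A, (∀ g : A →ₐ[k] k, g a = 0) → a = 0) {W : Submodule k R}
    (hW : ∀ (g : A →ₐ[k] k), ∀ r ∈ W, trans g r ∈ W) : IsSubcomod (k := k) (A := A) W := by
  refine isSubcomod_iff_hit.2 fun l r hr => ?_
  by_contra hne
  obtain ⟨φ, hφne, hφ0⟩ := Submodule.exists_dual_map_eq_bot_of_notMem hne inferInstance
  have hzero : ∀ t : R ⊗[k] A, ∀ l : A →ₗ[k] k, l (sliceL φ t) = φ (sliceR l t) := by
    intro t l
    induction t using TensorProduct.induction_on with
    | zero => simp
    | add x y hx hy => simp [map_add, hx, hy]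
    | tmul a b => simp [mul_comm]
  have ha : cf (A := A) φ r = 0 := hA _ fun x => by
    refine (hzero _ x.toLinearMap).trans ?_
    have := hW x r hr
    rw [trans_apply] at this
    exact (Submodule.mem_bot k).1 (hφ0 ▸ Submodule.mem_map_of_mem this)
  apply hφne
  rw [hit_apply, ← hzero, ← cf_apply, ha, map_zero]

end Translate

section Sub

variable {R : Type u} [CommRing R] [Algebra k R] [Comod k A R] [GLin.IsCoactAlg k A R]

theorem map_val_injective (B : Subalgebra k R) :
    Function.Injective (Algebra.TensorProduct.map B.val (AlgHom.id k A)) := by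
  have : Function.Injective (B.toSubmodule.subtype.rTensor A) :=
    Module.Flat.rTensor_preserves_injective_linearMap _ Subtype.val_injective
  have e : B.toSubmodule.subtype.rTensor A = (Algebra.TensorProduct.map B.val (AlgHom.id k A)).toLinearMap := by
    ext b a; rfl
  rw [e] at this
  exact this

theorem mem_range_map_of_mem {B : Subalgebra k R} {W : Submodule k R} (hW : IsSubcomod (k := k) (A := A) W)
    (hWB : W ≤ B.toSubmodule) {r : R} (hr : r ∈ W) :
    Comod.coact (k := k) (A := A) r ∈ (Algebra.TensorProduct.map B.val (AlgHom.id k A)).range := by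
  obtain ⟨t, ht⟩ := hW r hr
  refine ⟨(Submodule.inclusion hWB).rTensor A t, ?_⟩
  rw [← ht]
  have e : (Algebra.TensorProduct.map B.val (AlgHom.id k A)).toLinearMap = B.toSubmodule.subtype.rTensor A := by
    ext b a; rfl
  change (Algebra.TensorProduct.map B.val (AlgHom.id k A)).toLinearMap _ = _
  rw [e, ← LinearMap.rTensor_comp_apply]
  rfl

theorem isSubcomod_adjoin {s : Set R} {W : Submodule k R} (hW : IsSubcomod (k := k) (A := A) W) (hs : s ⊆ W)
    (hWs : W ≤ (Algebra.adjoin k s).toSubmodule) :
    IsSubcomod (k := k) (A := A) (Algebra.adjoin k s).toSubmodule := by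
  intro b hb
  have e : (Algebra.adjoin k s).toSubmodule.subtype.rTensor A =
      (Algebra.TensorProduct.map (Algebra.adjoin k s).val (AlgHom.id k A)).toLinearMap := by
    ext b a; rfl
  rw [e]
  show GLin.coactAlgHom k A R b ∈ (Algebra.TensorProduct.map (Algebra.adjoin k s).val (AlgHom.id k A)).range
  have hb' : b ∈ Algebra.adjoin k s := hb
  clear hb
  induction hb' using Algebra.adjoin_induction with
  | mem g hg => exact mem_range_map_of_mem hW hWs (hs hg)
  | algebraMap c => rw [AlgHom.commutes]; exact Subalgebra.algebraMap_mem _ c
  | add x y _ _ hx hy => rw [map_add]; exact add_mem hx hy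
  | mul x y _ _ hx hy => rw [map_mul]; exact mul_mem hx hy

theorem exists_comod_subalgebra (B : Subalgebra k R) (hB : IsSubcomod (k := k) (A := A) B.toSubmodule) :
    ∃ (c : Comod k A B), @GLin.IsCoactAlg k _ A _ _ B _ _ c ∧
      ∀ b : B, Algebra.TensorProduct.map B.val (AlgHom.id k A) (c.coact b) = Comod.coact (k := k) (A := A) (b : R) := by
  let c : Comod k A B := ComodSub.Comod.restr inferInstance B.toSubmodule hB
  have hι : ∀ b : B, Algebra.TensorProduct.map B.val (AlgHom.id k A) (c.coact b) =
      Comod.coact (k := k) (A := A) (b : R) := by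
    intro b
    refine Eq.trans ?_ (ComodSub.restr_coact_coe inferInstance B.toSubmodule hB b)
    generalize c.coact b = t
    induction t using TensorProduct.induction_on with
    | zero => simp
    | add x y hx hy => simp [map_add, hx, hy]
    | tmul a b => rfl
  refine ⟨c, @GLin.IsCoactAlg.mk k _ A _ _ B _ _ c ?_ ?_, hι⟩
  · exact map_val_injective B (by rw [hι, map_one]; exact GLin.IsCoactAlg.coact_one)
  · intro f g
    exact map_val_injective B (by rw [hι, map_mul, hι, hι]; exact GLin.IsCoactAlg.coact_mul (k := k) (A := A) _ _)

end Sub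

/-- A comodule algebra from an algebra map satisfying the laws. -/
theorem exists_comod_of_algHom {P : Type u} [CommRing P] [Algebra k P] (ρ : P →ₐ[k] P ⊗[k] A)
    (h1 : ((Algebra.TensorProduct.assoc k k k P A A).toAlgHom.comp
      (Algebra.TensorProduct.map ρ (AlgHom.id k A))).comp ρ =
      (Algebra.TensorProduct.map (AlgHom.id k P) (Bialgebra.comulAlgHom k A)).comp ρ)
    (h2 : (Algebra.TensorProduct.map (AlgHom.id k P) (Bialgebra.counitAlgHom k A)).comp ρ =
      Algebra.TensorProduct.includeLeft) :
    ∃ c : Comod k A P, @GLin.IsCoactAlg k _ A _ _ P _ _ c ∧ ∀ p, c.coact p = ρ p := by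
  let c : Comod k A P :=
    { coact := ρ.toLinearMap
      coassoc := LinearMap.ext fun p => by
        refine Eq.trans ?_ ((congrArg (fun φ : P →ₐ[k] P ⊗[k] (A ⊗[k] A) => φ p) h1).trans ?_)
        · simp only [AlgHom.comp_apply, LinearMap.comp_apply, AlgHom.toLinearMap_apply]
          generalize ρ p = t
          induction t using TensorProduct.induction_on with
          | zero => simp
          | add x y hx hy => simp only [map_add]; exact congrArg₂ (· + ·) hx hy
          | tmul a b => rfl
        · simp only [AlgHom.comp_apply, LinearMap.comp_apply, AlgHom.toLinearMap_apply]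
          generalize ρ p = t
          induction t using TensorProduct.induction_on with
          | zero => simp
          | add x y hx hy => simp only [map_add]; exact congrArg₂ (· + ·) hx hy
          | tmul a b => rfl
      counit_comp := LinearMap.ext fun p => by
        refine Eq.trans ?_ (congrArg (fun φ : P →ₐ[k] P ⊗[k] k => φ p) h2)
        simp only [AlgHom.comp_apply, LinearMap.comp_apply, AlgHom.toLinearMap_apply]
        generalize ρ p = t
        induction t using TensorProduct.induction_on with
        | zero => simp
        | add x y hx hy => simp only [map_add]; exact congrArg₂ (· + ·) hx hy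
        | tmul a b => rfl }
  exact ⟨c, @GLin.IsCoactAlg.mk k _ A _ _ P _ _ c (map_one ρ) (map_mul ρ), fun _ => rfl⟩

theorem exists_comod_poly {W : Type w} [AddCommGroup W] [Module k W] [Comod k A W] {ι : Type u}
    (b : Module.Basis ι k W) :
    ∃ (c : Comod k A (MvPolynomial ι k)), @GLin.IsCoactAlg k _ A _ _ (MvPolynomial ι k) _ _ c ∧
      ∀ w : W, c.coact (b.constr k (fun i => (MvPolynomial.X i : MvPolynomial ι k)) w) =
        (b.constr k (fun i => (MvPolynomial.X i : MvPolynomial ι k))).rTensor A (Comod.coact (k := k) (A := A) w) := by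
  let L : W →ₗ[k] MvPolynomial ι k := b.constr k (fun i => (MvPolynomial.X i : MvPolynomial ι k))
  let ρ : MvPolynomial ι k →ₐ[k] MvPolynomial ι k ⊗[k] A :=
    MvPolynomial.aeval fun i => L.rTensor A (Comod.coact (k := k) (A := A) (b i))
  have hρL : ρ.toLinearMap ∘ₗ L = L.rTensor A ∘ₗ Comod.coact := by
    refine b.ext fun i => ?_
    simp [L, ρ]
  have hρL' : ∀ w, ρ (L w) = L.rTensor A (Comod.coact (k := k) (A := A) w) := fun w => LinearMap.congr_fun hρL w
  obtain ⟨c, hc, hcρ⟩ := exists_comod_of_algHom ρ (MvPolynomial.algHom_ext fun i => by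
    have hX : (MvPolynomial.X i : MvPolynomial ι k) = L (b i) := by simp [L]
    simp only [AlgHom.comp_apply]
    rw [hX, hρL']
    have e1 : ∀ t : W ⊗[k] A, (Algebra.TensorProduct.map ρ (AlgHom.id k A)) (L.rTensor A t) =
        (L.rTensor A).rTensor A ((Comod.coact (k := k) (A := A) (V := W)).rTensor A t) := by
      intro t
      induction t using TensorProduct.induction_on with
      | zero => simp
      | add x y hx hy => simp only [map_add, hx, hy]
      | tmul a d => simp [hρL']
    have e2 : ∀ t : (W ⊗[k] A) ⊗[k] A, (Algebra.TensorProduct.assoc k k k (MvPolynomial ι k) A A).toAlgHom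
        ((L.rTensor A).rTensor A t) = L.rTensor (A ⊗[k] A) (TensorProduct.assoc k W A A t) := by
      intro t
      induction t using TensorProduct.induction_on with
      | zero => simp
      | add x y hx hy => simp only [map_add, hx, hy]
      | tmul a d =>
        induction a using TensorProduct.induction_on with
        | zero => simp
        | add x y hx hy => simp only [add_tmul, map_add, hx, hy]
        | tmul a e => simp
    rw [e1, e2, coassoc_apply]
    generalize Comod.coact (k := k) (A := A) (b i) = t
    induction t using TensorProduct.induction_on with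
    | zero => simp
    | add x y hx hy => simp only [map_add, hx, hy]
    | tmul a d => simp) (MvPolynomial.algHom_ext fun i => by
    have hX : (MvPolynomial.X i : MvPolynomial ι k) = L (b i) := by simp [L]
    simp only [AlgHom.comp_apply]
    rw [hX, hρL']
    have e1 : ∀ t : W ⊗[k] A, (Algebra.TensorProduct.map (AlgHom.id k (MvPolynomial ι k)) (Bialgebra.counitAlgHom k A))
        (L.rTensor A t) = L.rTensor k ((Coalgebra.counit (R := k) (A := A)).lTensor W t) := by
      intro t
      induction t using TensorProduct.induction_on with
      | zero => simp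
      | add x y hx hy => simp only [map_add, hx, hy]
      | tmul a d => simp
    rw [e1, counit_coact]
    simp)
  exact ⟨c, hc, fun w => (hcρ _).trans (hρL' w)⟩

theorem exists_comod_away {R : Type u} [CommRing R] [Algebra k R] [Comod k A R] [GLin.IsCoactAlg k A R]
    {f : R} (hf : f ∈ GLin.invariants k A R) (Rf : Type u) [CommRing Rf] [Algebra k Rf] [Algebra R Rf]
    [IsScalarTower k R Rf] [IsLocalization.Away f Rf] :
    ∃ (c : Comod k A Rf), @GLin.IsCoactAlg k _ A _ _ Rf _ _ c ∧
      ∀ r : R, c.coact (algebraMap R Rf r) =
        Algebra.TensorProduct.map (IsScalarTower.toAlgHom k R Rf) (AlgHom.id k A) (Comod.coact (k := k) (A := A) r) := by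
  let j : R →ₐ[k] Rf ⊗[k] A :=
    (Algebra.TensorProduct.map (IsScalarTower.toAlgHom k R Rf) (AlgHom.id k A)).comp (GLin.coactAlgHom k A R)
  have hj : IsUnit (j f) := by
    simp only [j, AlgHom.comp_apply, GLin.coactAlgHom_apply]
    rw [(GLin.mem_invariants_iff k A R f).1 hf]
    simp only [Algebra.TensorProduct.map_tmul, map_one]
    exact (IsLocalization.Away.algebraMap_isUnit f).map
      (Algebra.TensorProduct.includeLeft : Rf →ₐ[k] Rf ⊗[k] A)
  have hu : ∀ y : Submonoid.powers f, IsUnit (j y) := by
    rintro ⟨_, n, rfl⟩; simpa using hj.pow n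
  let ρ : Rf →ₐ[k] Rf ⊗[k] A := IsLocalization.liftAlgHom (M := Submonoid.powers f) (f := j) hu
  have hρ : ∀ r, ρ (algebraMap R Rf r) = j r := fun r => IsLocalization.lift_eq _ r
  obtain ⟨c, hc, hcρ⟩ := exists_comod_of_algHom ρ
    (IsLocalization.algHom_ext (Submonoid.powers f) (AlgHom.ext fun r => by
      show ((Algebra.TensorProduct.assoc k k k Rf A A).toAlgHom.comp
        (Algebra.TensorProduct.map ρ (AlgHom.id k A))) (ρ (algebraMap R Rf r)) =
        (Algebra.TensorProduct.map (AlgHom.id k Rf) (Bialgebra.comulAlgHom k A)) (ρ (algebraMap R Rf r))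
      rw [hρ]
      simp only [j, AlgHom.comp_apply, GLin.coactAlgHom_apply]
      have e1 : ∀ t : R ⊗[k] A, (Algebra.TensorProduct.map ρ (AlgHom.id k A))
          ((Algebra.TensorProduct.map (IsScalarTower.toAlgHom k R Rf) (AlgHom.id k A)) t) =
          ((IsScalarTower.toAlgHom k R Rf).toLinearMap.rTensor A).rTensor A
            ((Comod.coact (k := k) (A := A) (V := R)).rTensor A t) := by
        intro t
        induction t using TensorProduct.induction_on with
        | zero => simp
        | add x y hx hy => simp only [map_add, hx, hy]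
        | tmul a d =>
          simp only [Algebra.TensorProduct.map_tmul, IsScalarTower.coe_toAlgHom', hρ, j, AlgHom.comp_apply,
            GLin.coactAlgHom_apply, LinearMap.rTensor_tmul, AlgHom.coe_id, id_eq]
          rfl
      have e2 : ∀ t : (R ⊗[k] A) ⊗[k] A, (Algebra.TensorProduct.assoc k k k Rf A A).toAlgHom
          (((IsScalarTower.toAlgHom k R Rf).toLinearMap.rTensor A).rTensor A t) =
          (IsScalarTower.toAlgHom k R Rf).toLinearMap.rTensor (A ⊗[k] A) (TensorProduct.assoc k R A A t) := by
        intro t
        induction t using TensorProduct.induction_on with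
        | zero => simp
        | add x y hx hy => simp only [map_add, hx, hy]
        | tmul a d =>
          induction a using TensorProduct.induction_on with
          | zero => simp
          | add x y hx hy => simp only [add_tmul, map_add, hx, hy]
          | tmul a e => simp
      rw [e1, e2, coassoc_apply]
      generalize Comod.coact (k := k) (A := A) r = t
      induction t using TensorProduct.induction_on with
      | zero => simp
      | add x y hx hy => simp only [map_add, hx, hy]
      | tmul a d => simp))
    (IsLocalization.algHom_ext (Submonoid.powers f) (AlgHom.ext fun r => by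
      show (Algebra.TensorProduct.map (AlgHom.id k Rf) (Bialgebra.counitAlgHom k A)) (ρ (algebraMap R Rf r)) =
        algebraMap R Rf r ⊗ₜ[k] 1
      rw [hρ]
      simp only [j, AlgHom.comp_apply, GLin.coactAlgHom_apply]
      have e1 : ∀ t : R ⊗[k] A, (Algebra.TensorProduct.map (AlgHom.id k Rf) (Bialgebra.counitAlgHom k A))
          ((Algebra.TensorProduct.map (IsScalarTower.toAlgHom k R Rf) (AlgHom.id k A)) t) =
          (IsScalarTower.toAlgHom k R Rf).toLinearMap.rTensor k ((Coalgebra.counit (R := k) (A := A)).lTensor R t) := by
        intro t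
        induction t using TensorProduct.induction_on with
        | zero => simp
        | add x y hx hy => simp only [map_add, hx, hy]
        | tmul a d => simp
      rw [e1, counit_coact]
      simp))
  exact ⟨c, hc, fun r => (hcρ _).trans (hρ r)⟩

/-- The quasi-finite locus is open. -/
theorem exists_nhd_quasiFiniteAt {R S : Type u} [CommRing R] [CommRing S] [Algebra R S] [Algebra.FiniteType R S]
    (p : Ideal S) [p.IsPrime] [Algebra.QuasiFiniteAt R p] :
    ∃ r ∉ p, ∀ (q : Ideal S) [q.IsPrime], r ∉ q → Algebra.QuasiFiniteAt R q := by
  obtain ⟨S', hS', r, hrp, H⟩ :=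
    Algebra.QuasiFiniteAt.exists_fg_and_exists_notMem_and_awayMap_bijective (R := R) p
  refine ⟨r.1, hrp, fun q _ hrq => ?_⟩
  have : Module.Finite R S' := ⟨(Submodule.fg_top _).mpr hS'⟩
  have : Algebra.QuasiFinite R (Localization.Away r) := .trans _ S' _
  have : Algebra.QuasiFinite R (Localization.Away r.1) :=
    .of_surjective_algHom (Localization.awayMapₐ S'.val r) H.2
  let f : Localization.Away r.1 →ₐ[S] Localization.AtPrime q :=
    IsLocalization.Away.liftAlgHom r.1 (f := Algebra.ofId _ _) <|
      IsLocalization.map_units (M := q.primeCompl) (Localization.AtPrime q) ⟨r, hrq⟩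
  refine .of_forall_exists_mul_mem_range (f.restrictScalars R) fun x ↦ ?_
  obtain ⟨x, ⟨s, hs⟩, rfl⟩ := IsLocalization.exists_mk'_eq q.primeCompl x
  exact ⟨algebraMap _ _ s, by simpa using IsLocalization.map_units _ ⟨s, hs⟩,
    algebraMap _ _ x, by simp⟩

end Groth.Agent.GLinLib
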