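import Groth.Agent.HopfLib.GITStable
import Groth.Agent.HopfLib.ComodFlag
import Mathlib.RingTheory.Flat.FaithfullyFlat.Algebra
import Mathlib.RingTheory.Ideal.MinimalPrime.Localization

/-!
# Orbits of a unipotent group are closed

For an affine unipotent group which is exhausted by finitely generated subalgebras over which the
coordinate ring is free, every orbit in an affine scheme is closed.
-/

open TensorProduct HopfRep Coalgebra

universe u

namespace Groth.Agent.GLinLib

open Groth.Agent.HopfLib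

set_option linter.unusedSectionVars false
set_option maxHeartbeats 400000

variable {k : Type u} [Field k] {H : Type u} [CommRing H] [HopfAlgebra k H]

section Stages

variable {B : ℕ → Subalgebra k H}

theorem comap_val_surjective (hfree : ∀ i, Module.Free (B i) H) (n : ℕ) :
    Function.Surjective (PrimeSpectrum.comap (B n).val.toRingHom) := by
  have : Nontrivial H := (Bialgebra.counitAlgHom k H).toRingHom.domain_nontrivial
  have := hfree n
  have : Module.FaithfullyFlat (B n) H := inferInstance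
  exact PrimeSpectrum.comap_surjective_of_faithfullyFlat (A := B n) (B := H)

theorem comap_inclusion_surjective (hfree : ∀ i, Module.Free (B i) H) {n m : ℕ} (h : B n ≤ B m) :
    Function.Surjective (PrimeSpectrum.comap (Subalgebra.inclusion h).toRingHom) := by
  intro P
  obtain ⟨Q, hQ⟩ := comap_val_surjective hfree n P
  exact ⟨PrimeSpectrum.comap (B m).val.toRingHom Q, hQ⟩

theorem exists_extend_point [IsAlgClosed k] (hmono : Monotone B) (hcov : ∀ h : H, ∃ i, h ∈ B i)
    (hfg : ∀ i, (B i).FG) (hfree : ∀ i, Module.Free (B i) H) {n : ℕ} (g0 : B n →ₐ[k] k) :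
    ∃ g : H →ₐ[k] k, g.comp (B n).val = g0 := by
  have step : ∀ (m : ℕ) (g : B m →ₐ[k] k), ∃ g' : B (m + 1) →ₐ[k] k,
      g'.comp (Subalgebra.inclusion (hmono (Nat.le_succ m))) = g := by
    intro m g
    obtain ⟨Q, hQ⟩ := comap_inclusion_surjective hfree (hmono (Nat.le_succ m))
      ⟨RingHom.ker g, RingHom.ker_isPrime g⟩
    have : Algebra.FiniteType k (B (m + 1)) := (Subalgebra.fg_iff_finiteType _).1 (hfg _)
    obtain ⟨g', hg'⟩ := exists_algHom_le_ker (k := k) Q.isPrime.ne_top
    refine ⟨g', (algHom_eq_of_ker_le fun x hx => ?_).symm⟩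
    exact RingHom.mem_ker.2 (RingHom.mem_ker.1 (hg' ((congrArg PrimeSpectrum.asIdeal hQ).ge hx)))
  choose nxt hnxt using step
  let G : ∀ j, B (n + j) →ₐ[k] k := fun j => Nat.rec g0 (fun i g => nxt (n + i) g) j
  have hG : ∀ (j l : ℕ) (x : H) (hx : x ∈ B (n + j)) (hx' : x ∈ B (n + (j + l))),
      G (j + l) ⟨x, hx'⟩ = G j ⟨x, hx⟩ := by
    intro j l
    induction l with
    | zero => intro x hx hx'; rfl
    | succ l ih =>
      intro x hx hx'
      rw [← ih x hx (hmono (by omega) hx)]
      exact AlgHom.congr_fun (hnxt (n + (j + l)) (G (j + l))) ⟨x, hmono (by omega) hx⟩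
  have hG' : ∀ (i j : ℕ), i ≤ j → ∀ (x : H) (hx : x ∈ B (n + i)) (hx' : x ∈ B (n + j)),
      G j ⟨x, hx'⟩ = G i ⟨x, hx⟩ := by
    intro i j hij x hx hx'
    obtain ⟨l, rfl⟩ := Nat.exists_eq_add_of_le hij
    exact hG i l x hx hx'
  have hcov' : ∀ x : H, ∃ j, x ∈ B (n + j) := fun x => by
    obtain ⟨i, hi⟩ := hcov x
    exact ⟨i, hmono (by omega) hi⟩
  choose idx hidx using hcov'
  let f : H → k := fun x => G (idx x) ⟨x, hidx x⟩
  have key : ∀ (x : H) (j : ℕ) (hx : x ∈ B (n + j)), f x = G j ⟨x, hx⟩ := by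
    intro x j hx
    rcases le_total (idx x) j with h | h
    · exact (hG' _ _ h x (hidx x) hx).symm
    · exact hG' _ _ h x hx (hidx x)
  let g : H →ₐ[k] k :=
    { toFun := f
      map_one' := (key 1 0 (one_mem _)).trans (map_one (G 0))
      map_zero' := (key 0 0 (zero_mem _)).trans (map_zero (G 0))
      map_mul' := fun x y => by
        have hx : x ∈ B (n + (idx x + idx y)) := hmono (by omega) (hidx x)
        have hy : y ∈ B (n + (idx x + idx y)) := hmono (by omega) (hidx y)
        rw [key _ _ (mul_mem hx hy), key _ _ hx, key _ _ hy]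
        exact map_mul (G (idx x + idx y)) ⟨x, hx⟩ ⟨y, hy⟩
      map_add' := fun x y => by
        have hx : x ∈ B (n + (idx x + idx y)) := hmono (by omega) (hidx x)
        have hy : y ∈ B (n + (idx x + idx y)) := hmono (by omega) (hidx y)
        rw [key _ _ (add_mem hx hy), key _ _ hx, key _ _ hy]
        exact map_add (G (idx x + idx y)) ⟨x, hx⟩ ⟨y, hy⟩
      commutes' := fun c => (key _ 0 ((B (n + 0)).algebraMap_mem c)).trans ((G 0).commutes c) }
  exact ⟨g, AlgHom.ext fun x => key x 0 x.2⟩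

theorem exists_le_of_fg (hmono : Monotone B) (hcov : ∀ h : H, ∃ i, h ∈ B i) (S : Finset H) :
    ∃ n, ∀ x ∈ S, x ∈ B n := by
  choose idx hidx using hcov
  exact ⟨S.sup idx, fun x hx => hmono (Finset.le_sup hx) (hidx x)⟩

end Stages

theorem formMul_antipode (h : H →ₐ[k] k) :
    formMul h.toLinearMap (h.comp (HopfAlgebra.antipodeAlgHom k H)).toLinearMap =
      counit (R := k) (A := H) := by
  refine LinearMap.ext fun a => ?_
  have e : ∀ t : H ⊗[k] H, LinearMap.mul' k k (TensorProduct.map h.toLinearMap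
      (h.comp (HopfAlgebra.antipodeAlgHom k H)).toLinearMap t) =
      h (LinearMap.mul' k H ((HopfAlgebraStruct.antipode (R := k) (A := H)).lTensor H t)) := by
    intro t
    induction t using TensorProduct.induction_on with
    | zero => simp
    | add p q hp hq => simp only [map_add, hp, hq]
    | tmul p q => simp
  simp only [formMul, LinearMap.comp_apply]
  rw [e, HopfAlgebra.mul_antipode_lTensor_comul_apply, AlgHom.commutes]
  rfl

theorem apply_hit (Y g : H →ₗ[k] k) (v : H) :
    Y (hit g v) = g (cf (A := H) Y v) := by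
  simp only [hit_apply, cf_apply]
  generalize Comod.coact (k := k) (A := H) v = t
  induction t using TensorProduct.induction_on with
  | zero => simp
  | add p q hp hq => simp only [map_add, hp, hq]
  | tmul p q => simp [mul_comm]

theorem act_eq_hit' (g : H →ₐ[k] k) (v : H) :
    Comod.act k H H g v = hit g.toLinearMap v := by
  simp only [Comod.act, hit_apply, LinearMap.comp_apply, LinearEquiv.coe_coe]
  generalize Comod.coact (k := k) (A := H) v = t
  induction t using TensorProduct.induction_on with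
  | zero => simp
  | add p q hp hq => simp only [map_add, hp, hq]
  | tmul a b => simp

/-- A linear form which is multiplicative on a stable subalgebra translates it multiplicatively. -/
theorem exists_translate {C : Subalgebra k H}
    (hC : IsSubcomod (k := k) (A := H) C.toSubmodule) (y : C →ₐ[k] k) (Y : H →ₗ[k] k)
    (hY : ∀ c : C, Y c = y c) :
    ∃ ψ : C →ₐ[k] H, ∀ c : C, ψ c = cf (A := H) Y (c : H) := by
  let M : C ⊗[k] H →ₐ[k] H ⊗[k] H := Algebra.TensorProduct.map C.val (AlgHom.id k H)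
  let F : C ⊗[k] H →ₐ[k] H := (Algebra.TensorProduct.lid k H).toAlgHom.comp
    (Algebra.TensorProduct.map y (AlgHom.id k H))
  have hF : ∀ t, sliceL Y (M t) = F t := by
    intro t
    induction t using TensorProduct.induction_on with
    | zero => simp
    | add p q hp hq => simp only [map_add, hp, hq]
    | tmul p q => simp [M, F, hY]
  have hcl : ∀ c : C, ∃ t : C ⊗[k] H, M t = comul (R := k) (c : H) := fun c => by
    obtain ⟨t, ht⟩ := hC c c.2
    exact ⟨t, ht⟩
  have hcf : ∀ (c : C) (t : C ⊗[k] H), M t = comul (R := k) (c : H) →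
      cf (A := H) Y (c : H) = F t := fun c t ht => by
    rw [← hF, ht]; rfl
  refine ⟨AlgHom.ofLinearMap ((cf (A := H) Y).comp C.val.toLinearMap) ?_ ?_, fun c => rfl⟩
  · exact (hcf 1 1 (by rw [map_one]; exact (Bialgebra.comul_one).symm)).trans (map_one F)
  · intro a b
    obtain ⟨s, hs⟩ := hcl a
    obtain ⟨t, ht⟩ := hcl b
    show cf (A := H) Y ((a * b : C) : H) = cf (A := H) Y (a : H) * cf (A := H) Y (b : H)
    rw [hcf a s hs, hcf b t ht, ← map_mul F]
    refine hcf (a * b) (s * t) ?_
    rw [map_mul M, hs, ht]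
    exact (Bialgebra.comul_mul _ _).symm

theorem translate_injective (hU : IsUnipotent k H) {C : Subalgebra k H}
    (hC : IsSubcomod (k := k) (A := H) C.toSubmodule) (y : C →ₐ[k] k) (Y : H →ₗ[k] k)
    (hY : ∀ c : C, Y c = y c) :
    Function.Injective ((cf (A := H) Y).comp C.val.toLinearMap) := by
  refine LinearMap.ker_eq_bot.1 ((Submodule.eq_bot_iff _).2 fun c hc => ?_)
  by_contra hne
  let S : Submodule k H := C.toSubmodule ⊓ LinearMap.ker (cf (A := H) Y)
  have hS : IsSubcomod (k := k) (A := H) S := isSubcomod_inf hC (isSubcomod_ker (isComodHom_cf Y))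
  have hO : orbit k H (c : H) ≤ S := orbit_le hS ⟨c.2, hc⟩
  let cO := ComodSub.Comod.restr (Comod.regular (k := k) (A := H)) (orbit k H (c : H)) (isSubcomod_orbit _)
  have : Module.Finite k (orbit k H (c : H)) := finite_orbit _
  have : Nontrivial (orbit k H (c : H)) :=
    nontrivial_of_ne ⟨(c : H), mem_orbit_self _⟩ 0 fun h => hne (Subtype.ext (congrArg Subtype.val h :))
  have hfix := @hU (orbit k H (c : H)) _ _ cO inferInstance inferInstance
  obtain ⟨w, hw, hw0⟩ := Submodule.exists_mem_ne_zero_of_ne_bot hfix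
  have hco : comul (R := k) (w : H) = (w : H) ⊗ₜ[k] (1 : H) := by
    have h := @IsComodHom.coact_apply k _ H _ _ _ (orbit k H (c : H)) _ _ cO H _ _
      (Comod.regular (k := k) (A := H)) _
      (ComodSub.isComodHom_subtype (Comod.regular (k := k) (A := H)) (orbit k H (c : H)) (isSubcomod_orbit _)) w
    rw [show @Comod.coact k H _ _ _ _ _ _ _ cO w = w ⊗ₜ[k] (1 : H) from hw] at h
    exact h
  have hεw : (w : H) = counit (R := k) (w : H) • (1 : H) := by
    have h := Coalgebra.rTensor_counit_comul (R := k) (w : H)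
    rw [hco, LinearMap.rTensor_tmul] at h
    simpa using (congrArg (TensorProduct.lid k H) h).symm
  have hwS : (w : H) ∈ S := hO w.2
  have hY1 : Y 1 = 1 := (hY 1).trans (map_one y)
  have hYw : Y (w : H) = 0 := by
    have h : cf (A := H) Y (w : H) = 0 := hwS.2
    rw [cf_apply, show Comod.coact (k := k) (A := H) (w : H) = _ from hco, sliceL_tmul] at h
    have := congrArg (counit (R := k) (A := H)) h
    simpa using this
  rw [hεw, map_smul, hY1, smul_eq_mul, _root_.mul_one] at hYw
  refine hw0 (Subtype.ext ?_)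
  rw [hεw, hYw, zero_smul]
  rfl

variable [IsAlgClosed k] {B : ℕ → Subalgebra k H}

theorem exists_point_extending (hU : IsUnipotent k H) (hmono : Monotone B)
    (hcov : ∀ h : H, ∃ i, h ∈ B i) (hfg : ∀ i, (B i).FG) (hfree : ∀ i, Module.Free (B i) H)
    {C : Subalgebra k H} (hCfg : C.FG) (hC : IsSubcomod (k := k) (A := H) C.toSubmodule)
    (y : C →ₐ[k] k) : ∃ G : H →ₐ[k] k, G.comp C.val = y := by
  classical
  obtain ⟨Y, hY⟩ := LinearMap.exists_extend (p := C.toSubmodule) y.toLinearMap
  have hY' : ∀ c : C, Y c = y c := fun c => LinearMap.congr_fun hY c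
  obtain ⟨ψ, hψ⟩ := exists_translate hC y Y hY'
  have hψi : Function.Injective ψ := fun a b hab =>
    translate_injective hU hC y Y hY' (by simpa [hψ] using hab)
  obtain ⟨S, hS⟩ := hCfg
  have hSC : ∀ x ∈ S, x ∈ C := fun x hx => hS.le (Algebra.subset_adjoin hx)
  obtain ⟨n, hn⟩ := exists_le_of_fg hmono hcov (S ∪ S.attach.image
    (fun s : {x : H // x ∈ S} => ψ ⟨s.1, hSC s.1 s.2⟩))
  have hCn : C ≤ B n := hS ▸ Algebra.adjoin_le fun x hx => hn x (Finset.mem_union_left _ hx)
  have hψn : ∀ c : C, ψ c ∈ B n := by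
    rintro ⟨c, hc⟩
    have hc' : c ∈ Algebra.adjoin k (S : Set H) := hS ▸ hc
    induction hc' using Algebra.adjoin_induction with
    | mem x hx => exact hn _ (Finset.mem_union_right _ (Finset.mem_image.2
        ⟨⟨x, hx⟩, Finset.mem_attach _ _, rfl⟩))
    | algebraMap r =>
      have : ψ (algebraMap k C r) ∈ B n := by rw [AlgHom.commutes]; exact (B n).algebraMap_mem r
      exact this
    | add a b ha hb iha ihb =>
      have ha' : a ∈ C := hS ▸ ha
      have hb' : b ∈ C := hS ▸ hb
      have : ψ (⟨a, ha'⟩ + ⟨b, hb'⟩) ∈ B n := by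
        rw [map_add]; exact add_mem (iha ha') (ihb hb')
      exact this
    | mul a b ha hb iha ihb =>
      have ha' : a ∈ C := hS ▸ ha
      have hb' : b ∈ C := hS ▸ hb
      have : ψ (⟨a, ha'⟩ * ⟨b, hb'⟩) ∈ B n := by
        rw [map_mul]; exact mul_mem (iha ha') (ihb hb')
      exact this
  let f₁ : C →ₐ[k] B n := Subalgebra.inclusion hCn
  let f₂ : C →ₐ[k] B n := ψ.codRestrict (B n) hψn
  have hf₁ : Function.Injective f₁ := Subalgebra.inclusion_injective hCn
  have hf₂ : Function.Injective f₂ := fun a b hab => hψi (congrArg Subtype.val hab :)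
  have : Algebra.FiniteType k C := (Subalgebra.fg_iff_finiteType _).1 ⟨S, hS⟩
  have : Algebra.FiniteType k (B n) := (Subalgebra.fg_iff_finiteType _).1 (hfg n)
  have : IsNoetherianRing C := Algebra.FiniteType.isNoetherianRing k C
  have hfp : ∀ f : C →ₐ[k] B n, f.toRingHom.FinitePresentation := by
    intro f
    refine RingHom.FinitePresentation.of_finiteType.1 ?_
    let := f.toRingHom.toAlgebra
    have : IsScalarTower k C (B n) := IsScalarTower.of_algebraMap_eq fun a => (f.commutes a).symm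
    exact RingHom.finiteType_algebraMap.2 (Algebra.FiniteType.of_restrictScalars_finiteType k C (B n))
  let T : Set (PrimeSpectrum C) := Set.range (PrimeSpectrum.comap f₁.toRingHom) ∩
    Set.range (PrimeSpectrum.comap f₂.toRingHom)
  have hT : Topology.IsConstructible T :=
    (PrimeSpectrum.isConstructible_range_comap (hfp f₁)).inter
      (PrimeSpectrum.isConstructible_range_comap (hfp f₂))
  have hd : closure T = Set.univ := by
    refine Set.eq_univ_of_forall fun P => ?_
    obtain ⟨p, hp, hle⟩ := Ideal.exists_minimalPrimes_le (I := (⊥ : Ideal C)) (J := P.asIdeal) bot_le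
    obtain ⟨q₁, hq₁, e₁⟩ := Ideal.exists_comap_eq_of_mem_minimalPrimes_of_injective
      (f := f₁.toRingHom) hf₁ p hp
    obtain ⟨q₂, hq₂, e₂⟩ := Ideal.exists_comap_eq_of_mem_minimalPrimes_of_injective
      (f := f₂.toRingHom) hf₂ p hp
    have hpT : (⟨p, hp.1.1⟩ : PrimeSpectrum C) ∈ T :=
      ⟨⟨⟨q₁, hq₁⟩, PrimeSpectrum.ext e₁⟩, ⟨⟨q₂, hq₂⟩, PrimeSpectrum.ext e₂⟩⟩
    exact ((PrimeSpectrum.le_iff_specializes (⟨p, hp.1.1⟩ : PrimeSpectrum C) P).1 hle).mem_closed
      isClosed_closure (subset_closure hpT)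
  obtain ⟨P₀, hP₀⟩ : (interior T).Nonempty := interior_nonempty_of_isConstructible hT (by
    rw [hd, interior_univ]
    exact ⟨⟨RingHom.ker y, RingHom.ker_isPrime y⟩, trivial⟩)
  obtain ⟨z, hz⟩ := exists_algHom_mem_of_isOpen (k := k) isOpen_interior hP₀
  have lift : ∀ f : C →ₐ[k] B n,
      (⟨RingHom.ker z, RingHom.ker_isPrime z⟩ : PrimeSpectrum C) ∈
        Set.range (PrimeSpectrum.comap f.toRingHom) →
      ∃ g : H →ₐ[k] k, ∀ c : C, g (f c : H) = z c := by
    rintro f ⟨Q, hQ⟩
    obtain ⟨g0, hg0⟩ := exists_algHom_le_ker (k := k) Q.isPrime.ne_top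
    obtain ⟨g, hg⟩ := exists_extend_point hmono hcov hfg hfree g0
    have e : z = g0.comp f := algHom_eq_of_ker_le fun x hx =>
      RingHom.mem_ker.2 (RingHom.mem_ker.1 (hg0 ((congrArg PrimeSpectrum.asIdeal hQ).ge hx)) :)
    exact ⟨g, fun c => (AlgHom.congr_fun hg (f c)).trans (AlgHom.congr_fun e c).symm⟩
  obtain ⟨g, hg⟩ := lift f₁ (interior_subset hz).1
  obtain ⟨h, hh⟩ := lift f₂ (interior_subset hz).2
  let h' := h.comp (HopfAlgebra.antipodeAlgHom k H)
  refine ⟨g.comp (actAlgHom (R := H) h'), AlgHom.ext fun c => ?_⟩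
  show g (actAlgHom (R := H) h' (c : H)) = y c
  rw [actAlgHom_apply, act_eq_hit']
  let c' : C := ⟨hit h'.toLinearMap (c : H), IsSubcomod.hit_mem hC _ c.2⟩
  calc g (hit h'.toLinearMap (c : H)) = z c' := hg c'
    _ = h (ψ c') := (hh c').symm
    _ = Y (hit h.toLinearMap (hit h'.toLinearMap (c : H))) := by
        rw [hψ, apply_hit]; rfl
    _ = y c := by rw [hit_hit, formMul_antipode, hit_counit, hY']

theorem comap_val_surjective_of_isSubcomod (hU : IsUnipotent k H) (hmono : Monotone B)
    (hcov : ∀ h : H, ∃ i, h ∈ B i) (hfg : ∀ i, (B i).FG) (hfree : ∀ i, Module.Free (B i) H)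
    {C : Subalgebra k H} (hCfg : C.FG) (hC : IsSubcomod (k := k) (A := H) C.toSubmodule) :
    Function.Surjective (PrimeSpectrum.comap C.val.toRingHom) := by
  intro P
  refine (PrimeSpectrum.mem_range_comap_iff C.val.toRingHom).2
    (le_antisymm (fun c hc => ?_) Ideal.le_comap_map)
  by_contra hcP
  have : Algebra.FiniteType k C := (Subalgebra.fg_iff_finiteType _).1 hCfg
  obtain ⟨y, hy⟩ := exists_algHom_ne_zero (k := k) (f := Ideal.Quotient.mk P.asIdeal c)
    (fun hn => hcP (Ideal.Quotient.eq_zero_iff_mem.1 hn.eq_zero))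
  obtain ⟨G, hG⟩ := exists_point_extending hU hmono hcov hfg hfree hCfg hC
    (y.comp (Ideal.Quotient.mkₐ k P.asIdeal))
  refine hy ?_
  have hle : P.asIdeal.map C.val.toRingHom ≤ RingHom.ker G := Ideal.map_le_iff_le_comap.2 fun x hx => by
    rw [Ideal.mem_comap, RingHom.mem_ker]
    refine (AlgHom.congr_fun hG x).trans ?_
    simp [Ideal.Quotient.eq_zero_iff_mem.2 hx]
  exact ((AlgHom.congr_fun hG c).symm).trans (RingHom.mem_ker.1 (hle hc))

/-- Orbits of a unipotent affine group on an affine scheme are closed. -/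
theorem isClosedOrbit_of_isUnipotent (hU : IsUnipotent k H) (hmono : Monotone B)
    (hcov : ∀ h : H, ∃ i, h ∈ B i) (hfg : ∀ i, (B i).FG) (hfree : ∀ i, Module.Free (B i) H)
    {A : Type u} [CommRing A] [Algebra k A] [Comod k H A] [GLin.IsCoactAlg k H A] (x : A →ₐ[k] k) :
    GLin.IsClosedOrbit k H x := by
  classical
  let φ := GLin.orbitHom k H x
  suffices e : Set.range (PrimeSpectrum.comap φ.toRingHom) =
      PrimeSpectrum.zeroLocus (RingHom.ker φ : Set A) by
    show IsClosed (Set.range (PrimeSpectrum.comap φ.toRingHom))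
    rw [e]
    exact PrimeSpectrum.isClosed_zeroLocus _
  refine Set.Subset.antisymm ?_ fun P hP => (PrimeSpectrum.mem_range_comap_iff φ.toRingHom).2
    (le_antisymm (fun s hs => ?_) Ideal.le_comap_map)
  · rintro _ ⟨Q, rfl⟩ s hs
    show φ s ∈ Q.asIdeal
    rw [RingHom.mem_ker.1 hs]
    exact zero_mem _
  rw [Ideal.mem_comap, Ideal.map] at hs
  obtain ⟨T, hT, hsT⟩ := Submodule.mem_span_finite_of_mem_span hs
  obtain ⟨t, ht, rfl⟩ := Finset.subset_set_image_iff.1 hT
  obtain ⟨W, hWfin, htW, hWs⟩ :=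
    exists_finite_subcomod (k := k) (A := H) (↑(insert s t) : Set A) (Finset.finite_toSet _)
  let CA : Subalgebra k A := Algebra.adjoin k (W : Set A)
  let C : Subalgebra k H := CA.map φ
  have hCeq : C = Algebra.adjoin k (φ '' (W : Set A)) := AlgHom.map_adjoin φ _
  have hWfg : W.FG := Module.Finite.iff_fg.1 hWfin
  have hCfg : C.FG := by
    obtain ⟨T₀, hT₀⟩ := hWfg
    refine Subalgebra.FG.map φ ⟨T₀, le_antisymm (Algebra.adjoin_mono ?_) (Algebra.adjoin_le ?_)⟩
    · rw [← hT₀]; exact Submodule.subset_span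
    · rw [← hT₀]; exact Algebra.span_le_adjoin k _
  have hC : IsSubcomod (k := k) (A := H) C.toSubmodule := by
    let M : C ⊗[k] H →ₐ[k] H ⊗[k] H := Algebra.TensorProduct.map C.val (AlgHom.id k H)
    have hle : C ≤ M.range.comap (Bialgebra.comulAlgHom k H) := by
      refine hCeq.le.trans (Algebra.adjoin_le ?_)
      rintro _ ⟨w, hw, rfl⟩
      have hφW : (W.map φ.toLinearMap) ≤ C.toSubmodule := by
        rintro _ ⟨v, hv, rfl⟩
        exact ⟨v, Algebra.subset_adjoin hv, rfl⟩
      obtain ⟨r, hr⟩ := range_rTensor_subtype_mono (A := H) hφW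
        (isSubcomod_map (isComodHom_orbitHom x) hWs (φ w) ⟨w, hw, rfl⟩)
      exact ⟨r, hr⟩
    intro c hc
    obtain ⟨r, hr⟩ := hle hc
    exact ⟨r, hr⟩
  let π : CA →ₐ[k] C := (φ.comp CA.val).codRestrict C fun a => ⟨a, a.2, rfl⟩
  have hπ : Function.Surjective π := fun ⟨_, a, ha, e⟩ => ⟨⟨a, ha⟩, Subtype.ext e⟩
  let PA : Ideal CA := P.asIdeal.comap CA.val.toRingHom
  have hker : RingHom.ker π ≤ PA := fun a ha =>
    hP (RingHom.mem_ker.2 (congrArg Subtype.val (RingHom.mem_ker.1 ha) : φ (a : A) = 0))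
  have : (Ideal.map π PA).IsPrime := Ideal.map_isPrime_of_surjective hπ hker
  obtain ⟨Q, hQ⟩ := comap_val_surjective_of_isSubcomod hU hmono hcov hfg hfree hCfg hC
    ⟨Ideal.map π PA, this⟩
  have hQ' : Q.asIdeal.comap C.val.toRingHom = Ideal.map π PA := congrArg PrimeSpectrum.asIdeal hQ
  have hmem : ∀ a ∈ W, a ∈ CA := fun a ha => Algebra.subset_adjoin ha
  have htW' : ∀ a ∈ insert s t, a ∈ W := fun a ha => htW (by simpa using ha)
  have hsQ : φ s ∈ Q.asIdeal := by
    refine (Ideal.span_le (I := Q.asIdeal)).2 ?_ hsT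
    intro b hb
    obtain ⟨a, ha, rfl⟩ := Finset.mem_image.1 hb
    have h : π ⟨a, hmem a (htW' a (Finset.mem_insert_of_mem ha))⟩ ∈ Q.asIdeal.comap C.val.toRingHom := by
      rw [hQ']; exact Ideal.mem_map_of_mem π (ht ha :)
    exact h
  have h : π ⟨s, hmem s (htW' s (Finset.mem_insert_self s t))⟩ ∈ Ideal.map π PA := by
    rw [← hQ']; exact hsQ
  obtain ⟨a, ha, e⟩ := (Ideal.mem_map_iff_of_surjective π hπ).1 h
  have h2 := hker (x := a - ⟨s, hmem s (htW' s (Finset.mem_insert_self s t))⟩)
    (RingHom.mem_ker.2 (by rw [map_sub, e, sub_self]))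
  have h3 := Ideal.sub_mem PA ha h2
  rw [sub_sub_cancel] at h3
  exact h3

end Groth.Agent.GLinLib
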