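import Groth.Agent.GLinLib.UnipotentOrbit
import Groth.Agent.HopfQuot.UnipotentBaseChange
import Mathlib.FieldTheory.IsAlgClosed.AlgebraicClosure
import Mathlib.RingTheory.FiniteStability

/-!
# Orbits of a unipotent algebraic group on an affine scheme, over an arbitrary field
-/

open TensorProduct HopfRep Coalgebra

universe u

namespace Groth.Agent.GLinLib

open Groth.Agent.HopfLib

set_option linter.unusedSectionVars false
set_option maxHeartbeats 800000

variable {k : Type u} [Field k] {H : Type u} [CommRing H] [HopfAlgebra k H] [Algebra.FiniteType k H]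

/-- Spec of a finitely generated subcomodule subalgebra is covered by the group. -/
theorem comap_val_surjective_of_isSubcomod_finiteType (hU : IsUnipotent k H)
    {C : Subalgebra k H} (hCfg : C.FG) (hC : IsSubcomod (k := k) (A := H) C.toSubmodule) :
    Function.Surjective (PrimeSpectrum.comap C.val.toRingHom) := by
  classical
  let K := AlgebraicClosure k
  let j : K ⊗[k] C →ₐ[K] K ⊗[k] H := Algebra.TensorProduct.map (AlgHom.id K K) C.val
  have hj : Function.Injective j := by
    have h := Module.Flat.lTensor_preserves_injective_linearMap (M := K) C.val.toLinearMap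
      Subtype.val_injective
    intro x y e
    exact h e
  let CK : Subalgebra K (K ⊗[k] H) := j.range
  have : Algebra.FiniteType k C := (Subalgebra.fg_iff_finiteType _).1 hCfg
  have hCKfg : CK.FG := by
    have : Algebra.FiniteType K (K ⊗[k] C) := inferInstance
    show j.range.FG
    rw [← Algebra.map_top]
    exact Subalgebra.FG.map j this.out
  have hCK : IsSubcomod (k := K) (A := K ⊗[k] H) CK.toSubmodule := by
    let M : CK ⊗[K] (K ⊗[k] H) →ₐ[K] (K ⊗[k] H) ⊗[K] (K ⊗[k] H) :=
      Algebra.TensorProduct.map CK.val (AlgHom.id K _)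
    have hle : CK ≤ M.range.comap (Bialgebra.comulAlgHom K (K ⊗[k] H)) := by
      rintro _ ⟨t, rfl⟩
      induction t using TensorProduct.induction_on with
      | zero => rw [map_zero]; exact zero_mem _
      | add p q hp hq => rw [map_add]; exact add_mem hp hq
      | tmul c x =>
        have e : j (c ⊗ₜ[k] x) = c • ((1 : K) ⊗ₜ[k] (x : H)) := by
          show c ⊗ₜ[k] (x : H) = _
          rw [TensorProduct.smul_tmul', smul_eq_mul, mul_one]
        show j (c ⊗ₜ[k] x) ∈ M.range.comap (Bialgebra.comulAlgHom K (K ⊗[k] H))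
        rw [e]
        refine Subalgebra.smul_mem _ ?_ c
        show CoalgebraStruct.comul (R := K) ((1 : K) ⊗ₜ[k] (x : H)) ∈ M.range
        rw [HopfQuot.comul_one_tmul']
        obtain ⟨r, hr⟩ := hC (x : H) x.2
        rw [show CoalgebraStruct.comul (R := k) (x : H) = C.toSubmodule.subtype.rTensor H r from hr.symm]
        clear hr e
        induction r using TensorProduct.induction_on with
        | zero => rw [map_zero, TensorProduct.tmul_zero, map_zero]; exact zero_mem _
        | add p q hp hq => rw [map_add, TensorProduct.tmul_add, map_add]; exact add_mem hp hq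
        | tmul p q =>
          refine ⟨(⟨(1 : K) ⊗ₜ[k] (p : H), (1 : K) ⊗ₜ[k] ⟨p.1, p.2⟩, rfl⟩ : CK) ⊗ₜ[K] ((1 : K) ⊗ₜ[k] q), ?_⟩
          rw [LinearMap.rTensor_tmul, AlgebraTensorModule.distribBaseChange_tmul]
          rfl
    intro c hc
    obtain ⟨r, hr⟩ := hle hc
    exact ⟨r, hr⟩
  have hfg : ∀ _ : ℕ, (⊤ : Subalgebra K (K ⊗[k] H)).FG := fun _ =>
    (inferInstance : Algebra.FiniteType K (K ⊗[k] H)).out
  let eTop : (⊤ : Subalgebra K (K ⊗[k] H)) ≃ₗ[(⊤ : Subalgebra K (K ⊗[k] H))] (K ⊗[k] H) :=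
      { toFun := fun x => x.1
        invFun := fun x => ⟨x, trivial⟩
        left_inv := fun _ => rfl
        right_inv := fun _ => rfl
        map_add' := fun _ _ => rfl
        map_smul' := fun _ _ => rfl }
  have hfree : ∀ _ : ℕ, Module.Free (⊤ : Subalgebra K (K ⊗[k] H)) (K ⊗[k] H) := fun _ =>
    Module.Free.of_equiv eTop
  have hsurj := comap_val_surjective_of_isSubcomod (HopfQuot.isUnipotent_iff_baseChange.1 hU)
    (B := fun _ => ⊤) (fun _ _ _ => le_rfl) (fun _ => ⟨0, trivial⟩) hfg hfree hCKfg hCK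
  intro P
  obtain ⟨Q₀, hQ₀⟩ := PrimeSpectrum.comap_surjective_of_faithfullyFlat (A := C) (B := C ⊗[k] K) P
  let Q' : PrimeSpectrum (K ⊗[k] C) :=
    PrimeSpectrum.comap (Algebra.TensorProduct.comm k K C).toAlgHom.toRingHom Q₀
  have hQ' : PrimeSpectrum.comap (Algebra.TensorProduct.includeRight : C →ₐ[k] K ⊗[k] C).toRingHom Q' = P := by
    rw [← hQ₀]
    rfl
  let r : K ⊗[k] C ≃ₐ[K] CK := AlgEquiv.ofInjective j hj
  obtain ⟨Q, hQ⟩ := hsurj (PrimeSpectrum.comap r.symm.toAlgHom.toRingHom Q')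
  refine ⟨PrimeSpectrum.comap (Algebra.TensorProduct.includeRight : H →ₐ[k] K ⊗[k] H).toRingHom Q, ?_⟩
  rw [← hQ']
  ext c
  have e1 : (CK.val.toRingHom (r ((1 : K) ⊗ₜ[k] c))) = (1 : K) ⊗ₜ[k] (c : H) := rfl
  have h : r ((1 : K) ⊗ₜ[k] c) ∈ (PrimeSpectrum.comap CK.val.toRingHom Q).asIdeal ↔
      r ((1 : K) ⊗ₜ[k] c) ∈ (PrimeSpectrum.comap r.symm.toAlgHom.toRingHom Q').asIdeal := by rw [hQ]
  simp only [PrimeSpectrum.comap_asIdeal, Ideal.mem_comap] at h ⊢
  rw [e1] at h
  refine h.trans ?_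
  show r.symm (r _) ∈ _ ↔ _
  rw [AlgEquiv.symm_apply_apply]
  rfl

/-- Orbits of a unipotent algebraic group on an affine scheme are closed, over any field. -/
theorem isClosedOrbit_of_isUnipotent_finiteType (hU : IsUnipotent k H)
    {A : Type u} [CommRing A] [Algebra k A] [Comod k H A] [GLin.IsCoactAlg k H A] (x : A →ₐ[k] k) :
    GLin.IsClosedOrbit k H x := by
  classical
  let φ := GLin.orbitHom k H x
  suffices e : Set.range (PrimeSpectrum.comap φ.toRingHom) =
      PrimeSpectrum.zeroLocus (RingHom.ker φ : Set A) by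
    show IsClosed (Set.range (PrimeSpectrum.comap φ.toRingHom))
    rw [e]
    exact PrimeSpectrum.isClosed_zeroLocus _
  refine Set.Subset.antisymm ?_ fun P hP => (PrimeSpectrum.mem_range_comap_iff φ.toRingHom).2
    (le_antisymm (fun s hs => ?_) Ideal.le_comap_map)
  · rintro _ ⟨Q, rfl⟩ s hs
    show φ s ∈ Q.asIdeal
    rw [RingHom.mem_ker.1 hs]
    exact zero_mem _
  rw [Ideal.mem_comap, Ideal.map] at hs
  obtain ⟨T, hT, hsT⟩ := Submodule.mem_span_finite_of_mem_span hs
  obtain ⟨t, ht, rfl⟩ := Finset.subset_set_image_iff.1 hT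
  obtain ⟨W, hWfin, htW, hWs⟩ :=
    exists_finite_subcomod (k := k) (A := H) (↑(insert s t) : Set A) (Finset.finite_toSet _)
  let CA : Subalgebra k A := Algebra.adjoin k (W : Set A)
  let C : Subalgebra k H := CA.map φ
  have hCeq : C = Algebra.adjoin k (φ '' (W : Set A)) := AlgHom.map_adjoin φ _
  have hWfg : W.FG := Module.Finite.iff_fg.1 hWfin
  have hCfg : C.FG := by
    obtain ⟨T₀, hT₀⟩ := hWfg
    refine Subalgebra.FG.map φ ⟨T₀, le_antisymm (Algebra.adjoin_mono ?_) (Algebra.adjoin_le ?_)⟩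
    · rw [← hT₀]; exact Submodule.subset_span
    · rw [← hT₀]; exact Algebra.span_le_adjoin k _
  have hC : IsSubcomod (k := k) (A := H) C.toSubmodule := by
    let M : C ⊗[k] H →ₐ[k] H ⊗[k] H := Algebra.TensorProduct.map C.val (AlgHom.id k H)
    have hle : C ≤ M.range.comap (Bialgebra.comulAlgHom k H) := by
      refine hCeq.le.trans (Algebra.adjoin_le ?_)
      rintro _ ⟨w, hw, rfl⟩
      have hφW : (W.map φ.toLinearMap) ≤ C.toSubmodule := by
        rintro _ ⟨v, hv, rfl⟩
        exact ⟨v, Algebra.subset_adjoin hv, rfl⟩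
      obtain ⟨r, hr⟩ := range_rTensor_subtype_mono (A := H) hφW
        (isSubcomod_map (isComodHom_orbitHom x) hWs (φ w) ⟨w, hw, rfl⟩)
      exact ⟨r, hr⟩
    intro c hc
    obtain ⟨r, hr⟩ := hle hc
    exact ⟨r, hr⟩
  let π : CA →ₐ[k] C := (φ.comp CA.val).codRestrict C fun a => ⟨a, a.2, rfl⟩
  have hπ : Function.Surjective π := fun ⟨_, a, ha, e⟩ => ⟨⟨a, ha⟩, Subtype.ext e⟩
  let PA : Ideal CA := P.asIdeal.comap CA.val.toRingHom
  have hker : RingHom.ker π ≤ PA := fun a ha =>
    hP (RingHom.mem_ker.2 (congrArg Subtype.val (RingHom.mem_ker.1 ha) : φ (a : A) = 0))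
  have : (Ideal.map π PA).IsPrime := Ideal.map_isPrime_of_surjective hπ hker
  obtain ⟨Q, hQ⟩ := comap_val_surjective_of_isSubcomod_finiteType hU hCfg hC
    ⟨Ideal.map π PA, this⟩
  have hQ' : Q.asIdeal.comap C.val.toRingHom = Ideal.map π PA := congrArg PrimeSpectrum.asIdeal hQ
  have hmem : ∀ a ∈ W, a ∈ CA := fun a ha => Algebra.subset_adjoin ha
  have htW' : ∀ a ∈ insert s t, a ∈ W := fun a ha => htW (by simpa using ha)
  have hsQ : φ s ∈ Q.asIdeal := by
    refine (Ideal.span_le (I := Q.asIdeal)).2 ?_ hsT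
    intro b hb
    obtain ⟨a, ha, rfl⟩ := Finset.mem_image.1 hb
    have h : π ⟨a, hmem a (htW' a (Finset.mem_insert_of_mem ha))⟩ ∈ Q.asIdeal.comap C.val.toRingHom := by
      rw [hQ']; exact Ideal.mem_map_of_mem π (ht ha :)
    exact h
  have h : π ⟨s, hmem s (htW' s (Finset.mem_insert_self s t))⟩ ∈ Ideal.map π PA := by
    rw [← hQ']; exact hsQ
  obtain ⟨a, ha, e⟩ := (Ideal.mem_map_iff_of_surjective π hπ).1 h
  have h2 := hker (x := a - ⟨s, hmem s (htW' s (Finset.mem_insert_self s t))⟩)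
    (RingHom.mem_ker.2 (by rw [map_sub, e, sub_self]))
  have h3 := Ideal.sub_mem PA ha h2
  rw [sub_sub_cancel] at h3
  exact h3

end Groth.Agent.GLinLib
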